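import Groth.Agent.HS11.Reps
import Groth.Agent.EtFound.CoprodSections
import Groth.Agent.EtFound.PullExt
import Groth.Prelude.Def_EtCore
import Mathlib.CategoryTheory.Preadditive.Injective.Basic

/-!
# Sections over a Galois cover as a representation of the group
-/

universe u

open CategoryTheory CategoryTheory.Limits AlgebraicGeometry Opposite

namespace Groth.Agent.HS11

open Groth.Agent.EtFound

attribute [local instance 10000] Rep.hV2

set_option backward.isDefEq.respectTransparency.types false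

variable {X : Scheme.{u}} {Y : X.Etale} {G : Type (u + 1)} [Group G] (σ : G →* Aut Y)

/-- The endomorphism through which a group element acts on sections. -/
noncomputable abbrev act (g : G) : Y ⟶ Y := (σ g).inv

theorem act_mul (g h : G) : act σ (g * h) = act σ g ≫ act σ h :=
  congrArg Iso.inv (map_mul σ g h)

theorem act_one : act σ (1 : G) = 𝟙 Y := congrArg Iso.inv (map_one σ)

theorem hom_eq_act (g : G) : (σ g).hom = act σ g⁻¹ := by
  show _ = (σ g⁻¹).inv
  rw [map_inv]
  rfl

/-- The functor from the group to the site. -/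
noncomputable def bgFun : BG G ⥤ X.Etale where
  obj _ := Y
  map g := act σ g
  map_id _ := act_one σ
  map_comp f g := act_mul σ f g

/-- Sections over the cover as presheaves on the group. -/
noncomputable def preT : EtCoh.Ab X ⥤ (BG G)ᵒᵖ ⥤ AddCommGrpCat.{u + 1} :=
  sheafToPresheaf _ _ ⋙ (Functor.whiskeringLeft _ _ _).obj (bgFun σ).op

instance : (preT σ).Additive where
  map_add {F F' f g} := rfl

/-- Sections over the cover as a representation. -/
noncomputable def sectRep : EtCoh.Ab X ⥤ Rep.{u + 1} Zℤ.{u + 1} G := preT σ ⋙ toRep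

instance : (sectRep σ).Additive := by unfold sectRep; infer_instance

theorem sectRep_ρ (F : EtCoh.Ab X) (g : G) (x : F.obj.obj (op Y)) :
    ((sectRep σ).obj F).ρ g x = (F.obj.map (act σ g).op).hom x := rfl

theorem map_map_apply (F : EtCoh.Ab X) {A B C : X.Etale} (f : A ⟶ B) (g : B ⟶ C) (x : F.obj.obj (op C)) :
    (F.obj.map f.op).hom ((F.obj.map g.op).hom x) = (F.obj.map (f ≫ g).op).hom x :=
  (ConcreteCategory.congr_hom (F.obj.map_comp g.op f.op) x).symm

theorem map_congr_apply (F : EtCoh.Ab X) {A B : X.Etale} {f g : A ⟶ B} (h : f = g) (x : F.obj.obj (op B)) :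
    (F.obj.map f.op).hom x = (F.obj.map g.op).hom x := by subst h; rfl

theorem map_id_apply (F : EtCoh.Ab X) {A : X.Etale} (x : F.obj.obj (op A)) :
    (F.obj.map (𝟙 A).op).hom x = x :=
  ConcreteCategory.congr_hom (F.obj.map_id (op A)) x

variable (hgal : Nonempty (IsColimit (Cofan.mk (Y ⨯ Y) (fun g : G => prod.lift (𝟙 Y) (σ g).hom))))

/-- The graph of an element of the group. -/
noncomputable abbrev graph (g : G) : Y ⟶ Y ⨯ Y := prod.lift (𝟙 Y) (σ g).hom

theorem graph_act (g h : G) :
    graph σ g ≫ prod.map (act σ h) (𝟙 Y) = act σ h ≫ graph σ (g * h) := by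
  have hm : (σ (g * h)).hom = (σ h).hom ≫ (σ g).hom := congrArg Iso.hom (map_mul σ g h)
  show prod.lift (𝟙 Y) (σ g).hom ≫ prod.map (act σ h) (𝟙 Y) = act σ h ≫ prod.lift (𝟙 Y) (σ (g * h)).hom
  rw [prod.lift_map, prod.comp_lift, hm, Category.id_comp, Category.comp_id, Category.comp_id,
    show act σ h = (σ h).inv from rfl, Iso.inv_hom_id_assoc]

variable [Finite G]

include hgal in
theorem graph_bijective (F : EtCoh.Ab X) :
    Function.Bijective (fun (s : F.obj.obj (op (Y ⨯ Y))) (g : G) => (F.obj.map (graph σ g).op).hom s) := by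
  obtain ⟨n, ⟨e⟩⟩ := Finite.exists_equiv_fin G
  let e' : G ≃ ULift.{u} (Fin n) := e.trans Equiv.ulift.symm
  have hc : IsColimit (Cofan.mk (Y ⨯ Y) fun i : ULift.{u} (Fin n) => graph σ (e'.symm i)) :=
    Cofan.IsColimit.mk _ (fun t => Cofan.IsColimit.desc hgal.some fun g =>
        eqToHom (by simp) ≫ t.inj (e' g))
      (fun t i => by
        have := Cofan.IsColimit.fac hgal.some (fun g => eqToHom (by simp) ≫ t.inj (e' g)) (e'.symm i)
        simp at this ⊢
        exact this)
      (fun t m hm => Cofan.IsColimit.hom_ext hgal.some _ _ fun g => by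
        have := hm (e' g)
        simp at this ⊢
        exact this.trans (Cofan.IsColimit.fac hgal.some (fun g => t.inj (e' g)) g).symm)
  obtain ⟨hl⟩ := nonempty_isColimit_left (fun _ : ULift.{u} (Fin n) => Y) _ hc
  obtain ⟨hcov, hdisj, hmono, -⟩ := cover_disjoint_mono_of_isColimit (fun _ : ULift.{u} (Fin n) => Y) _ hl
  have h := bijective_sections_of_disjoint F (fun _ : ULift.{u} (Fin n) => Y) _ hcov hdisj
  refine ⟨fun s t hst => h.1 (funext fun i => congrFun hst (e'.symm i)), fun x => ?_⟩
  obtain ⟨s, hs⟩ := h.2 fun i => x (e'.symm i)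
  refine ⟨s, funext fun g => ?_⟩
  obtain ⟨i, rfl⟩ := e'.symm.surjective g
  exact congrFun hs i

variable (hY : Function.Surjective Y.hom.base)

/-- `W ↦ W ⨯ Y`. -/
noncomputable def prodY (Y : X.Etale) : X.Etale ⥤ X.Etale where
  obj W := W ⨯ Y
  map f := prod.map f (𝟙 Y)
  map_id W := by ext <;> simp
  map_comp f g := by ext <;> simp

/-- The projection. -/
noncomputable def prodYFst (Y : X.Etale) : prodY Y ⟶ 𝟭 X.Etale where
  app W := prod.fst
  naturality W W' f := by simp [prodY]

include hY in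
theorem surjective_fst (W : X.Etale) : Function.Surjective (prod.fst : W ⨯ Y ⟶ W).left.base := by
  intro w
  obtain ⟨y, hy⟩ := hY (W.hom.base w)
  obtain ⟨z, hz, -⟩ := Scheme.Pullback.exists_preimage_pullback (f := W.hom) (g := Y.hom) w y hy.symm
  haveI : AlgebraicGeometry.Etale Y.hom := Y.prop
  haveI : AlgebraicGeometry.Etale W.hom := W.prop
  haveI : AlgebraicGeometry.Etale (pullback.fst W.hom Y.hom ≫ W.hom) := inferInstance
  let V : X.Etale := Scheme.Etale.mk (pullback.fst W.hom Y.hom ≫ W.hom)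
  let p : V ⟶ W := MorphismProperty.Over.homMk (pullback.fst W.hom Y.hom) rfl trivial
  let q : V ⟶ Y := MorphismProperty.Over.homMk (pullback.snd W.hom Y.hom) pullback.condition.symm trivial
  refine ⟨(prod.lift p q).left.base z, ?_⟩
  rw [← Scheme.Hom.comp_apply]
  have h : (prod.lift p q).left ≫ (prod.fst : W ⨯ Y ⟶ W).left = pullback.fst W.hom Y.hom :=
    congrArg (fun m : V ⟶ W => m.left) (prod.lift_fst p q)
  exact (congrArg (fun m : V.left ⟶ W.left => m.base z) h).trans hz

include hgal hY in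
/-- Sections of injective sheaves have an endomorphism of norm one. -/
theorem exists_normEnd_sectRep [Fintype G] (F : EtCoh.Ab X) [Injective F] :
    ∃ φ : (sectRep σ).obj F →ₗ[Zℤ.{u + 1}] (sectRep σ).obj F,
      ∀ a, GpCohX.normEnd ((sectRep σ).obj F) φ a = a := by
  classical
  have : Injective F.obj :=
    Injective.injective_of_adjoint (sheafificationAdjunction X.smallEtaleTopology AddCommGrpCat.{u + 1}) F
  let η : F.obj ⟶ (prodY Y).op ⋙ F.obj := Functor.whiskerRight (NatTrans.op (prodYFst Y)) F.obj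
  have hη : ∀ W : X.Etaleᵒᵖ, Mono (η.app W) := fun W => by
    refine (AddCommGrpCat.mono_iff_injective _).2 fun a b hab => ?_
    have hc := isSheafFor_of_covers.{0} F (W := W.unop) (fun _ : PUnit => W.unop ⨯ Y) (fun _ => prod.fst)
      fun w => ⟨PUnit.unit, surjective_fst hY W.unop w⟩
    refine hc.isSeparatedFor.ext fun V v hv => ?_
    obtain ⟨i⟩ := hv
    exact hab
  have : Mono η := NatTrans.mono_of_mono_app η
  let r : (prodY Y).op ⋙ F.obj ⟶ F.obj := Injective.factorThru (𝟙 F.obj) η
  have hr : η ≫ r = 𝟙 F.obj := Injective.comp_factorThru _ _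
  let M := F.obj.obj (op (Y ⨯ Y))
  let Θ : M →+ (G → F.obj.obj (op Y)) :=
    { toFun := fun s g => (F.obj.map (graph σ g).op).hom s
      map_zero' := funext fun g => map_zero _
      map_add' := fun s t => funext fun g => map_add _ s t }
  let e : M ≃+ (G → F.obj.obj (op Y)) := AddEquiv.ofBijective Θ (graph_bijective σ hgal F)
  let ρ' : G → M →+ M := fun h => (F.obj.map (prod.map (act σ h) (𝟙 Y)).op).hom
  let ρ : G → F.obj.obj (op Y) →+ F.obj.obj (op Y) := fun h => (F.obj.map (act σ h).op).hom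
  have hρ' : ∀ (h : G) (s : M) (g : G), e (ρ' h s) g = ρ h (e s (g * h)) := fun h s g =>
    (map_map_apply F _ _ s).trans ((map_congr_apply F (graph_act σ g h) s).trans (map_map_apply F _ _ s).symm)
  have hinv : ∀ (h : G) (a : F.obj.obj (op Y)), ρ h (ρ h⁻¹ a) = a := fun h a =>
    (map_map_apply F _ _ a).trans ((map_congr_apply F ((act_mul σ h h⁻¹).symm.trans
      ((congrArg (act σ) (mul_inv_cancel h)).trans (act_one σ))) a).trans (map_id_apply F a))
  let ηY : F.obj.obj (op Y) →+ M := (η.app (op Y)).hom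
  let rY : M →+ F.obj.obj (op Y) := (r.app (op Y)).hom
  let φ' : M →+ M :=
    e.symm.toAddMonoidHom.comp ((AddMonoidHom.single (fun _ : G => F.obj.obj (op Y)) 1).comp
      ((Pi.evalAddMonoidHom _ (1 : G)).comp e.toAddMonoidHom))
  have hr' : ∀ (h : G) (s : M), ρ h (rY s) = rY (ρ' h s) := fun h s =>
    (ConcreteCategory.congr_hom (r.naturality (act σ h).op) s).symm
  have hη' : ∀ (h : G) (a : F.obj.obj (op Y)), ηY (ρ h a) = ρ' h (ηY a) := fun h a =>
    ConcreteCategory.congr_hom (η.naturality (act σ h).op) a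
  refine ⟨toUlin (rY.comp (φ'.comp ηY)), fun a => ?_⟩
  rw [GpCohX.normEnd_apply]
  show ∑ h : G, ρ h (rY (φ' (ηY (ρ h⁻¹ a)))) = a
  rw [Finset.sum_congr rfl fun h _ => (hr' h _).trans (by rw [hη']), ← map_sum]
  refine Eq.trans (congrArg rY (e.injective (funext fun g => ?_))) (ConcreteCategory.congr_hom (NatTrans.congr_app hr (op Y)) a)
  rw [map_sum, Finset.sum_apply, Finset.sum_eq_single g⁻¹]
  · rw [hρ']
    show ρ g⁻¹ (e (e.symm _) (g * g⁻¹)) = _
    rw [e.apply_symm_apply, mul_inv_cancel]
    show ρ g⁻¹ ((Pi.single (1 : G) _ : G → _) 1) = _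
    rw [Pi.single_eq_same]
    show ρ g⁻¹ (e (ρ' g⁻¹⁻¹ (ηY a)) 1) = _
    rw [hρ', hinv, one_mul, inv_inv]
    rfl
  · intro h _ hh
    rw [hρ']
    show ρ h (e (e.symm _) (g * h)) = 0
    rw [e.apply_symm_apply]
    show ρ h ((Pi.single (1 : G) _ : G → _) (g * h)) = 0
    rw [Pi.single_eq_of_ne (fun c => hh (eq_inv_of_mul_eq_one_right c)), map_zero]
  · exact fun h => absurd (Finset.mem_univ _) h

/-- Restriction of global sections to the cover. -/
noncomputable def resTop (F : EtCoh.Ab X) : F.obj.obj (op (EtCoh.top X)) →+ F.obj.obj (op Y) :=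
  (F.obj.map ((EtCore.topIsTerminal X).from Y).op).hom

theorem resTop_mem (F : EtCoh.Ab X) (x : F.obj.obj (op (EtCoh.top X))) (g : G) :
    ((sectRep σ).obj F).ρ g (resTop F x) = resTop (Y := Y) F x :=
  (map_map_apply F _ _ x).trans (map_congr_apply F ((EtCore.topIsTerminal X).hom_ext _ _) x)

include hgal hY in
/-- Global sections are the invariant sections over the cover. -/
theorem resTop_bijective_invariants (F : EtCoh.Ab X) :
    Function.Injective (resTop (Y := Y) F) ∧
      ∀ y, (∀ g : G, (F.obj.map (act σ g).op).hom y = y) → ∃ x, resTop (Y := Y) F x = y := by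
  have hb : ((EtCore.topIsTerminal X).from Y).left = Y.hom :=
    (Category.comp_id _).symm.trans (MorphismProperty.Over.w ((EtCore.topIsTerminal X).from Y))
  have hc := isSheafFor_of_covers.{0} F (W := EtCoh.top X) (fun _ : PUnit => Y)
    (fun _ => (EtCore.topIsTerminal X).from Y)
    fun x => ⟨PUnit.unit, (hY x).choose, by rw [hb]; exact (hY x).choose_spec⟩
  refine ⟨fun a b hab => hc.isSeparatedFor.ext fun V v hv => ?_, fun y hy => ?_⟩
  · obtain ⟨i⟩ := hv
    exact hab
  · have hpq : (F.obj.map (prod.fst : Y ⨯ Y ⟶ Y).op).hom y = (F.obj.map (prod.snd : Y ⨯ Y ⟶ Y).op).hom y := by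
      refine (graph_bijective σ hgal F).1 (funext fun g => ?_)
      refine (map_map_apply F _ _ y).trans (((map_congr_apply F (prod.lift_fst _ _) y).trans (map_id_apply F y)).trans ?_)
      refine Eq.symm ((map_map_apply F _ _ y).trans ((map_congr_apply F ((prod.lift_snd _ _).trans (hom_eq_act σ g)) y).trans (hy g⁻¹)))
    have hcomp : Presieve.Arrows.Compatible (F.obj ⋙ forget AddCommGrpCat.{u + 1})
        (fun _ : PUnit => (EtCore.topIsTerminal X).from Y) (fun _ => y) := fun i j V p q _ => by
      show (F.obj.map p.op).hom y = (F.obj.map q.op).hom y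
      refine ((map_congr_apply F (prod.lift_fst p q) y).symm.trans (map_map_apply F _ _ y).symm).trans ?_
      rw [hpq]
      exact (map_map_apply F _ _ y).trans (map_congr_apply F (prod.lift_snd p q) y)
    obtain ⟨s, hs, -⟩ := (Presieve.isSheafFor_arrows_iff _ _).1 hc _ hcomp
    exact ⟨s, hs PUnit.unit⟩

end Groth.Agent.HS11
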