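import Groth.Agent.HS11.Galois
import Groth.Agent.SpObjSS.Grothendieck
import Groth.Agent.SpObjSS.SiteLeray
import Groth.Agent.EtMVLib.HpullApply
import Groth.Prelude.Def_SpSeq

/-!
# The Hochschild-Serre spectral sequence of a Galois cover
-/

universe u

open CategoryTheory CategoryTheory.Limits AlgebraicGeometry Opposite CategoryTheory.Abelian

namespace Groth.Agent.HS11

open Groth.Agent.EtFound Groth.Agent.EtMVLib

attribute [local instance 10000] Rep.hV2

set_option backward.isDefEq.respectTransparency.types false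
set_option maxHeartbeats 800000

variable {X : Scheme.{u}} {Y : X.Etale} {G : Type (u + 1)} [Group G] (σ : G →* Aut Y)

/-- The map of free sheaves along a morphism of the site. -/
noncomputable def freeMap {W W' : X.Etale} (a : W ⟶ W') : freeOn W ⟶ freeOn W' :=
  (exists_free_hom (G := freeOn W') ((freeOn W').obj.map a.op (freeVal (𝟙 (freeOn W'))))).choose

theorem freeVal_freeMap_comp {W W' : X.Etale} (a : W ⟶ W') {F : EtCoh.Ab X} (ψ : freeOn W' ⟶ F) :
    freeVal (freeMap a ≫ ψ) = F.obj.map a.op (freeVal ψ) := by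
  rw [freeVal_comp, freeMap,
    (exists_free_hom (G := freeOn W') ((freeOn W').obj.map a.op (freeVal (𝟙 (freeOn W'))))).choose_spec]
  refine (ConcreteCategory.congr_hom (ψ.hom.naturality a.op) (freeVal (𝟙 (freeOn W')))).trans ?_
  exact congrArg (F.obj.map a.op) ((freeVal_comp _ _).symm.trans (congrArg freeVal (Category.id_comp ψ)))

theorem freeVal_freeMap {W W' : X.Etale} (a : W ⟶ W') :
    freeVal (freeMap a) = (freeOn W').obj.map a.op (freeVal (𝟙 (freeOn W'))) :=
  (exists_free_hom (G := freeOn W') ((freeOn W').obj.map a.op (freeVal (𝟙 (freeOn W'))))).choose_spec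

/-- The free sheaf on the cover with the action of the group. -/
noncomputable def freeBG : BG G ⥤ EtCoh.Ab X where
  obj _ := freeOn Y
  map g := freeMap (act σ g)
  map_id _ := free_ext (by
    rw [freeVal_freeMap]
    exact (map_congr_apply _ (act_one σ) _).trans (map_id_apply _ _))
  map_comp f g := free_ext (by
    rw [freeVal_freeMap, freeVal_freeMap_comp, freeVal_freeMap]
    exact (map_congr_apply _ (act_mul σ f g) _).trans (map_map_apply _ _ _ _).symm)

/-- Sections over the cover are morphisms out of the free sheaf. -/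
noncomputable def preTPres : Groth.Agent.SiteBase.HomPres (freeBG σ) (preT σ) where
  σ F _ := AddEquiv.ofBijective (AddMonoidHom.mk' (fun ψ : freeOn Y ⟶ F => freeVal ψ) (fun _ _ => rfl))
    (freeVal_bijective Y F)
  σ_comp _ φ g := rfl
  σ_map f φ := freeVal_freeMap_comp (act σ f) φ

theorem atPt_map {Z : Scheme.{u}} (h : Z ⟶ X) {W W' : X.Etale} (a : W ⟶ W') (ρ : Z ⟶ W.left)
    (e : ρ ≫ W.hom = h) (ρ' : Z ⟶ W'.left) (hρ : ρ ≫ a.left = ρ') (e' : ρ' ≫ W'.hom = h) (F : EtCoh.Ab X)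
    (x : F.obj.obj (op W')) :
    atPt h W ρ e F (F.obj.map a.op x) = atPt h W' ρ' e' F x := by
  have h1 := ConcreteCategory.congr_hom (((EtCoh.pullPushAdj h).unit.app F).hom.naturality a.op) x
  have h2 : ptSec h W ρ e ≫ (EtCoh.bc h).map a = ptSec h W' ρ' e' := by
    refine MorphismProperty.Over.Hom.ext (pullback.hom_ext ?_ ?_)
    · exact (Category.assoc _ _ _).trans ((congrArg (_ ≫ ·) (pullback.lift_fst _ _ _)).trans
        ((Category.assoc _ _ _).symm.trans ((congrArg (· ≫ a.left) (pullback.lift_fst _ _ _)).trans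
          (hρ.trans (pullback.lift_fst _ _ _).symm))))
    · exact (Category.assoc _ _ _).trans ((congrArg (_ ≫ ·) (pullback.lift_snd _ _ _)).trans
        ((pullback.lift_snd _ _ _).trans (pullback.lift_snd _ _ _).symm))
  show ((EtCoh.pull h).obj F).obj.map (ptSec h W ρ e).op (((EtCoh.pullPushAdj h).unit.app F).hom.app (op W) (F.obj.map a.op x)) = _
  refine (congrArg (((EtCoh.pull h).obj F).obj.map (ptSec h W ρ e).op) h1).trans ?_
  exact (map_map_apply _ _ _ _).trans (map_congr_apply _ h2 _)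

theorem ptGen_freeMap {Z : Scheme.{u}} (h : Z ⟶ X) {W W' : X.Etale} (a : W ⟶ W') (ρ : Z ⟶ W.left)
    (e : ρ ≫ W.hom = h) (ρ' : Z ⟶ W'.left) (hρ : ρ ≫ a.left = ρ') (e' : ρ' ≫ W'.hom = h) :
    ptGen h W ρ e ≫ (EtCoh.pull h).map (freeMap a) = ptGen h W' ρ' e' := by
  refine (constVal_bijective _).1 ?_
  rw [constVal_ptGen_map, freeVal_freeMap, atPt_map h a ρ e ρ' hρ e', ptGen, constVal_ofVal]

theorem ptMap_freeMap {Z : Scheme.{u}} (h : Z ⟶ X) [PreservesFiniteLimits (EtCoh.pull h)]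
    {W W' : X.Etale} (a : W ⟶ W') (ρ : Z ⟶ W.left) (e : ρ ≫ W.hom = h) (ρ' : Z ⟶ W'.left)
    (hρ : ρ ≫ a.left = ρ') (e' : ρ' ≫ W'.hom = h) (F : EtCoh.Ab X) (q : ℕ) (x : Ext.{u + 1} (freeOn W') F q) :
    ptMap h W ρ e F q ((Ext.mk₀ (freeMap a)).comp x (zero_add q)) = ptMap h W' ρ' e' F q x := by
  show hp (EtCoh.pull h) (ptGen h W ρ e) F q _ = hp (EtCoh.pull h) (ptGen h W' ρ' e') F q x
  rw [hp_apply, hp_apply, Ext.mapExactFunctor_comp, Ext.mapExactFunctor_mk₀, Ext.mk₀_comp_mk₀_assoc,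
    ptGen_freeMap h a ρ e ρ' hρ e']

/-- An additive map of representations over `ULift ℤ` is linear. -/
def toUlin' (_σ : G →* Aut Y) {A B : Rep.{u + 1} Zℤ.{u + 1} G} (f : A.V →+ B.V) : A.V →ₗ[Zℤ.{u + 1}] B.V where
  toFun := f
  map_add' := map_add f
  map_smul' c x := by
    rw [RingHom.id_apply, show c = ((c.down : ℤ) : Zℤ.{u + 1}) from ULift.ext _ _ (by simp)]
    exact map_intCast_smul f _ _ _ _

/-- The cohomology of the cover as a representation. -/
noncomputable def cohRep (F : EtCoh.Ab X) (q : ℕ) : Rep.{u + 1} Zℤ.{u + 1} G :=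
  toRep.obj ((Groth.Agent.SiteBase.HomPres.extPsh (freeBG σ) q).obj F)

/-- The derived functors of sections over the cover. -/
noncomputable def rightDerivedSectRepIso (F : EtCoh.Ab X) (q : ℕ) :
    ((sectRep σ).rightDerived q).obj F ≅ cohRep σ F q :=
  rightDerivedToRepIso (preT σ) q F ≪≫ toRep.mapIso (((preTPres σ).rightDerivedIso q).app F)

theorem ptMap_Hpull_endo {Z : Scheme.{u}} (h : Z ⟶ X) [PreservesFiniteLimits (EtCoh.pull h)] (k : Z ⟶ Z)
    [PreservesFiniteLimits (EtCoh.pull k)] (hw : k ≫ h = h) (W : X.Etale) (ρ : Z ⟶ W.left) (e : ρ ≫ W.hom = h)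
    (ρ' : Z ⟶ W.left) (hρ : ρ' = k ≫ ρ) (e' : ρ' ≫ W.hom = h) (F : EtCoh.Ab X) (q : ℕ)
    (x : Ext.{u + 1} (freeOn W) F q) :
    ptMap h W ρ' e' F q x = EtCore.HpullVia k h h hw F q (ptMap h W ρ e F q x) :=
  (ptMap_Hpull k h h hw W ρ e ρ' hρ e' F q x).trans (HpullVia_apply _ _ _ _ F q _).symm

/-- A representation with the cohomology of the cover and the geometric action is `cohRep`. -/
theorem nonempty_iso_cohRep [∀ g : G, PreservesFiniteLimits (EtCoh.pull (σ g).inv.left)]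
    (F : EtCoh.Ab X) (q : ℕ) (A : Rep.{u + 1} Zℤ.{u + 1} G)
    (e : A.V ≃+ EtCoh.H Y.left ((EtCoh.pull Y.hom).obj F) q)
    (he : ∀ (g : G) (v : A.V),
      e (A.ρ g v) =
        EtCore.HpullVia (σ g).inv.left Y.hom Y.hom (MorphismProperty.Over.w (σ g).inv) F q (e v)) :
    Nonempty (cohRep σ F q ≅ A) := by
  haveI : AlgebraicGeometry.Etale Y.hom := Y.prop
  haveI : PreservesFiniteLimits (EtCoh.pull Y.hom) := Groth.Agent.EtFound.pull_preservesFiniteLimits Y.hom
  haveI : PreservesFiniteLimits (EtCoh.pull (X := Y.left) (Y := X) Y.hom) :=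
    Groth.Agent.EtFound.pull_preservesFiniteLimits (X := Y.left) (Y := X) Y.hom
  let Φ : Ext.{u + 1} (freeOn Y) F q ≃+ EtCoh.H Y.left ((EtCoh.pull Y.hom).obj F) q :=
    AddEquiv.ofBijective (ptMap Y.hom Y (𝟙 _) (Category.id_comp _) F q) (ptMap_bijective Y.hom Y (𝟙 _) (Category.id_comp _) F q)
  have hΦ : ∀ (g : G) (x : Ext.{u + 1} (freeOn Y) F q),
      Φ ((Ext.mk₀ (freeMap (act σ g))).comp x (zero_add q)) =
        EtCore.HpullVia (σ g).inv.left Y.hom Y.hom (MorphismProperty.Over.w (σ g).inv) F q (Φ x) := fun g x => by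
    show ptMap Y.hom Y (𝟙 _) _ F q _ = _
    rw [ptMap_freeMap Y.hom (act σ g) (𝟙 _) (Category.id_comp _) (act σ g).left (Category.id_comp _)
      (MorphismProperty.Over.w (act σ g)) F q x,
      ptMap_Hpull_endo Y.hom (act σ g).left (MorphismProperty.Over.w (act σ g)) Y (𝟙 _) (Category.id_comp _)
        (act σ g).left (Category.comp_id _).symm (MorphismProperty.Over.w (act σ g)) F q x]
    rfl
  let f : Ext.{u + 1} (freeOn Y) F q ≃+ A.V := Φ.trans e.symm
  let f₁ : (cohRep σ F q).V →+ A.V := f.toAddMonoidHom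
  let ℓ : cohRep σ F q ⟶ A := Rep.ofHom ⟨toUlin' σ f₁, fun g => LinearMap.ext fun x => by
    show f ((Ext.mk₀ (freeMap (act σ g))).comp x (zero_add q)) = A.ρ g (f x)
    refine e.injective ?_
    show e (e.symm (Φ _)) = e (A.ρ g (e.symm (Φ x)))
    rw [he, e.apply_symm_apply, e.apply_symm_apply, hΦ]⟩
  haveI : Mono ℓ := (Rep.mono_iff_injective ℓ).2 f.injective
  haveI : Epi ℓ := (Rep.epi_iff_surjective ℓ).2 f.surjective
  haveI : IsIso ℓ := isIso_of_mono_of_epi ℓ
  exact ⟨asIso ℓ⟩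

variable (hgal : Nonempty (IsColimit (Cofan.mk (Y ⨯ Y) (fun g : G => prod.lift (𝟙 Y) (σ g).hom))))
  (hY : Function.Surjective Y.hom.base) [Finite G]

include hgal hY in
/-- Invariants of sections over the cover are morphisms from the constant sheaf. -/
theorem nonempty_sectRep_hZero_iso :
    Nonempty (sectRep σ ⋙ Groth.Agent.SpObjSS.hZero (cochK (G := G)) ≅
      Groth.Agent.SpObjSS.homFrom (EtCoh.const X ℤ)) := by
  let U := forget₂ (ModuleCat.{u + 1} Zℤ.{u + 1}) AddCommGrpCat.{u + 1}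
  let e₁ : sectRep σ ⋙ Groth.Agent.SpObjSS.hZero (cochK (G := G)) ≅
      sectRep σ ⋙ Rep.invariantsFunctor Zℤ.{u + 1} G ⋙ U :=
    Functor.isoWhiskerLeft (sectRep σ) hZeroCochKIso
  let toInv : ∀ F : EtCoh.Ab X, (EtCoh.const X ℤ ⟶ F) →+ ((sectRep σ).obj F).ρ.invariants := fun F =>
    AddMonoidHom.mk' (fun ψ => ⟨resTop (Y := Y) F (constVal ψ), fun g => resTop_mem σ F (constVal ψ) g⟩)
      (fun ψ ψ' => Subtype.ext (by
        refine (congrArg (resTop (Y := Y) F) ?_).trans (map_add (resTop (Y := Y) F) (constVal ψ) (constVal ψ'))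
        rw [constVal_eq, constVal_eq, constVal_eq]
        rfl))
  have hbij : ∀ F, Function.Bijective (toInv F) := fun F => by
    refine ⟨fun ψ ψ' h => (constVal_bijective F).1
      ((resTop_bijective_invariants σ hgal hY F).1 (congrArg Subtype.val h)), fun y => ?_⟩
    obtain ⟨x, hx⟩ := (resTop_bijective_invariants σ hgal hY F).2 y.1 (fun g => y.2 g)
    exact ⟨ofVal x, Subtype.ext ((congrArg (resTop F) (constVal_ofVal x)).trans hx)⟩
  let e₂ : Groth.Agent.SpObjSS.homFrom (EtCoh.const X ℤ) ≅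
      sectRep σ ⋙ Rep.invariantsFunctor Zℤ.{u + 1} G ⋙ U :=
    NatIso.ofComponents (fun F => AddEquiv.toAddCommGrpIso
      (X := (Groth.Agent.SpObjSS.homFrom (EtCoh.const X ℤ)).obj F)
      (Y := (sectRep σ ⋙ Rep.invariantsFunctor Zℤ.{u + 1} G ⋙ U).obj F)
      (AddEquiv.ofBijective (toInv F) (hbij F)))
      (fun {F F'} f => AddCommGrpCat.hom_ext (AddMonoidHom.ext fun ψ => Subtype.ext (by
        show resTop F' (constVal (ψ ≫ f)) = f.hom.app (op Y) (resTop F (constVal ψ))
        rw [constVal_comp]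
        exact (ConcreteCategory.congr_hom (f.hom.naturality ((EtCore.topIsTerminal X).from Y).op) _).symm)))
  exact ⟨e₁ ≪≫ e₂.symm⟩

include hgal hY in
/-- The Hochschild-Serre spectral sequence. -/
theorem exists_hochschildSerre [∀ g : G, PreservesFiniteLimits (EtCoh.pull (σ g).inv.left)]
    (F : EtCoh.Ab X) (A : ℕ → Rep.{u + 1} Zℤ.{u + 1} G)
    (e : ∀ q : ℕ, (A q).V ≃+ EtCoh.H Y.left ((EtCoh.pull Y.hom).obj F) q)
    (he : ∀ (q : ℕ) (g : G) (v : (A q).V),
      e q ((A q).ρ g v) =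
        EtCore.HpullVia (σ g).inv.left Y.hom Y.hom (MorphismProperty.Over.w (σ g).inv) F q (e q v)) :
    ∃ (E : E₂CohomologicalSpectralSequence AddCommGrpCat.{u + 1})
      (a : SpSeq.Abutment E (fun n : ℤ =>
        if 0 ≤ n then AddCommGrpCat.of (EtCoh.H X F n.toNat) else AddCommGrpCat.of PUnit.{u + 2})),
      (∀ n, a.IsFinite n) ∧ SpSeq.IsBounded E ∧
      ∀ p q : ℤ, Nonempty ((E.page 2 le_rfl).X (p, q) ≅
        (if 0 ≤ p ∧ 0 ≤ q then AddCommGrpCat.of (groupCohomology (A q.toNat) p.toNat)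
         else AddCommGrpCat.of PUnit.{u + 2})) := by
  classical
  haveI := Fintype.ofFinite G
  have hK := cochK_shortExact (G := G)
  haveI := Groth.Agent.SpObjSS.preservesFiniteLimits_hZero (cochK (G := G)) hK
  refine Groth.Agent.SpObjSS.exists_grothendieck_spectralSequence' (sectRep σ)
    (Groth.Agent.SpObjSS.hZero (cochK (G := G))) (fun Q hQ i hi => ?_) F
    (fun n => AddCommGrpCat.of (EtCoh.H X F n))
    (fun n => ⟨(Groth.Agent.SiteBase.rightDerivedCongr (nonempty_sectRep_hZero_iso σ hgal hY).some n).app F ≪≫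
      Groth.Agent.SpObjSS.rightDerivedHomFromIso (EtCoh.const X ℤ) n F⟩)
    (fun p q => AddCommGrpCat.of (groupCohomology (A q) p))
    (fun p q => ⟨((Groth.Agent.SpObjSS.hZero (cochK (G := G))).rightDerived p).mapIso
      (rightDerivedSectRepIso σ F q ≪≫ (nonempty_iso_cohRep σ F q (A q) (e q) (he q)).some) ≪≫
      (Groth.Agent.SpObjSS.nonempty_rightDerived_hZero_iso (cochK (G := G)) hK exactAt_cochK_injective p (A q)).some ≪≫
      cochKHomologyIso (A q) p⟩)
    _ (AddCommGrpCat.isZero_of_subsingleton _)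
  obtain ⟨j, rfl⟩ := Nat.exists_eq_succ_of_ne_zero hi.ne'
  haveI := hQ
  obtain ⟨φ, hφ⟩ := exists_normEnd_sectRep σ hgal hY Q
  refine IsZero.of_iso ?_ (Groth.Agent.SpObjSS.nonempty_rightDerived_hZero_iso (cochK (G := G)) hK
    exactAt_cochK_injective (j + 1) ((sectRep σ).obj Q)).some
  exact (HomologicalComplex.exactAt_iff_isZero_homology _ _).1 (exactAt_cochK_of_normEnd _ φ hφ j)

end Groth.Agent.HS11
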