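import Groth.Agent.GpCohX.Averaging
import Groth.Agent.SpObjSS.ExactCx
import Mathlib.RepresentationTheory.Homological.GroupCohomology.LongExactSequence
import Mathlib.RepresentationTheory.Rep.Iso
import Mathlib.Algebra.Category.ModuleCat.EnoughInjectives
import Mathlib.CategoryTheory.Abelian.Exact
import Mathlib.CategoryTheory.Abelian.RightDerived
import Mathlib.Algebra.Category.Grp.Zero

/-!
# Presheaves on a group seen as representations, and the invariants functor as `H⁰` of cochains
-/

universe v w w'

open CategoryTheory CategoryTheory.Limits Opposite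

namespace Groth.Agent.HS11

attribute [local instance 10000] Rep.hV2
attribute [local instance 9000] Pi.module

/-- A copy of the one-object category of a group. -/
structure BG (G : Type v) : Type v where

variable {G : Type v} [Group G]

instance : Category.{v} (BG G) where
  Hom _ _ := G
  id _ := (1 : G)
  comp f g := (f * g : G)
  id_comp f := one_mul (M := G) f
  comp_id f := mul_one (M := G) f
  assoc f g h := mul_assoc (G := G) f g h

/-- The point. -/
abbrev pt (G : Type v) : BG G := ⟨⟩

/-- The endomorphism of the point given by a group element. -/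
abbrev arr (g : G) : pt G ⟶ pt G := g

abbrev Zℤ : Type v := ULift.{v} ℤ

/-- An additive map is linear over `ULift ℤ`. -/
def toUlin {A B : Type v} [AddCommGroup A] [AddCommGroup B] (f : A →+ B) :
    A →ₗ[Zℤ.{v}] B where
  toFun := f
  map_add' := map_add f
  map_smul' c x := map_zsmul f c.down x

/-- The representation of a presheaf on `BG`. -/
noncomputable def rho (M : (BG G)ᵒᵖ ⥤ AddCommGrpCat.{v}) : Representation Zℤ.{v} G (M.obj (op (pt G))) where
  toFun g := toUlin (M.map (arr g).op).hom
  map_one' := LinearMap.ext fun x => ConcreteCategory.congr_hom (M.map_id (op (pt G))) x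
  map_mul' g h := LinearMap.ext fun x =>
    ConcreteCategory.congr_hom (M.map_comp (arr h).op (arr g).op) x

/-- Presheaves on `BG` as representations. -/
noncomputable def toRep : ((BG G)ᵒᵖ ⥤ AddCommGrpCat.{v}) ⥤ Rep.{v} Zℤ.{v} G where
  obj M := Rep.of (rho M)
  map {M N} f := Rep.ofHom ⟨toUlin (f.app (op (pt G))).hom, fun g =>
    LinearMap.ext fun x => ConcreteCategory.congr_hom (f.naturality (arr g).op) x⟩
  map_id M := by ext; rfl
  map_comp f g := by ext; rfl

instance : (toRep (G := G)).Additive where
  map_add {M N f g} := by ext; rfl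

instance : (toRep (G := G)).PreservesHomology := by
  refine Functor.preservesHomology_of_map_exact _ fun S hS => ?_
  rw [← ShortComplex.exact_map_iff_of_faithful _ (forget₂ (Rep.{v} Zℤ.{v} G) (ModuleCat.{v} Zℤ.{v})),
    ShortComplex.moduleCat_exact_iff]
  have h : ∀ x, (S.g.app (op (pt G))).hom x = 0 → ∃ y, (S.f.app (op (pt G))).hom y = x :=
    (ShortComplex.ab_exact_iff _).1 (hS.map ((evaluation (BG G)ᵒᵖ AddCommGrpCat.{v}).obj (op (pt G))))
  exact fun x hx => h x hx

instance enoughInjectives_rep : EnoughInjectives (Rep.{v} Zℤ.{v} G) :=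
  Rep.equivalenceModuleMonoidAlgebra.enoughInjectives_iff.2 inferInstance

/-- The right derived functors of a composition with `toRep`. -/
noncomputable def rightDerivedToRepIso {A : Type w} [Category.{w'} A] [Abelian A] [EnoughInjectives A]
    (E : A ⥤ (BG G)ᵒᵖ ⥤ AddCommGrpCat.{v}) [E.Additive] (q : ℕ) (F : A) :
    ((E ⋙ toRep).rightDerived q).obj F ≅ toRep.obj ((E.rightDerived q).obj F) :=
  (injectiveResolution F).isoRightDerivedObj (E ⋙ toRep) q ≪≫
    ShortComplex.mapHomologyIso
      ((((E.mapHomologicalComplex _).obj (injectiveResolution F).cocomplex)).sc q) toRep ≪≫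
    toRep.mapIso ((injectiveResolution F).isoRightDerivedObj E q).symm

section Cochains

variable [Finite G]

/-- Inhomogeneous cochains in abelian groups. -/
noncomputable def cochK : Rep.{v} Zℤ.{v} G ⥤ CochainComplex AddCommGrpCat.{v} ℕ :=
  groupCohomology.cochainsFunctor Zℤ.{v} G ⋙
    (forget₂ (ModuleCat.{v} Zℤ.{v}) AddCommGrpCat.{v}).mapHomologicalComplex _

instance : (cochK (G := G)).Additive := by unfold cochK; infer_instance

theorem cochK_shortExact (S : ShortComplex (Rep.{v} Zℤ.{v} G)) (hS : S.ShortExact) :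
    (S.map (cochK (G := G))).ShortExact := by
  have h := groupCohomology.map_cochainsFunctor_shortExact hS
  exact HomologicalComplex.shortExact_of_degreewise_shortExact _ fun n =>
    (h.map_of_exact (HomologicalComplex.eval _ _ n)).map_of_exact
      (forget₂ (ModuleCat.{v} Zℤ.{v}) AddCommGrpCat.{v})

/-- Homology of the cochains. -/
noncomputable def cochKHomologyIso (M : Rep.{v} Zℤ.{v} G) (p : ℕ) :
    ((cochK (G := G)).obj M).homology p ≅ AddCommGrpCat.of (groupCohomology M p) :=
  ShortComplex.mapHomologyIso ((groupCohomology.inhomogeneousCochains M).sc p)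
    (forget₂ (ModuleCat.{v} Zℤ.{v}) AddCommGrpCat.{v})

theorem exactAt_cochK_of_normEnd [Fintype G] (M : Rep.{v} Zℤ.{v} G) (φ : M →ₗ[Zℤ.{v}] M)
    (hφ : ∀ a, GpCohX.normEnd M φ a = a) (p : ℕ) : ((cochK (G := G)).obj M).ExactAt (p + 1) := by
  rw [HomologicalComplex.exactAt_iff_isZero_homology]
  have := GpCohX.subsingleton_of_normEnd_eq M φ hφ p.succ_pos
  exact IsZero.of_iso (AddCommGrpCat.isZero_of_subsingleton _) (cochKHomologyIso M (p + 1))

omit [Finite G] in
theorem cochKHomologyIso_naturality {M N : Rep.{v} Zℤ.{v} G} (f : M ⟶ N) (p : ℕ) :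
    HomologicalComplex.homologyMap ((cochK (G := G)).map f) p ≫ (cochKHomologyIso N p).hom =
      (cochKHomologyIso M p).hom ≫
        (forget₂ (ModuleCat.{v} Zℤ.{v}) AddCommGrpCat.{v}).map (groupCohomology.map (MonoidHom.id G) f p) :=
  ShortComplex.mapHomologyIso_hom_naturality
    ((HomologicalComplex.shortComplexFunctor _ _ p).map (groupCohomology.cochainsMap (MonoidHom.id G) f))
    (forget₂ (ModuleCat.{v} Zℤ.{v}) AddCommGrpCat.{v})

/-- `H⁰` of the cochains is the invariants. -/
noncomputable def hZeroCochKIso :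
    SpObjSS.hZero (cochK (G := G)) ≅
      Rep.invariantsFunctor Zℤ.{v} G ⋙ forget₂ (ModuleCat.{v} Zℤ.{v}) AddCommGrpCat.{v} :=
  NatIso.ofComponents
    (fun M => cochKHomologyIso M 0 ≪≫
      (forget₂ (ModuleCat.{v} Zℤ.{v}) AddCommGrpCat.{v}).mapIso (groupCohomology.H0Iso M))
    (fun {M N} f => by
      have h2 := congrArg (fun m => (forget₂ (ModuleCat.{v} Zℤ.{v}) AddCommGrpCat.{v}).map m)
        (groupCohomology.map_id_comp_H0Iso_hom f)
      simp only [Functor.map_comp] at h2
      simp only [Functor.comp_map, HomologicalComplex.homologyFunctor_map, Iso.trans_hom, Functor.mapIso_hom]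
      refine (Category.assoc _ _ _).symm.trans ((congrArg (· ≫ _) (cochKHomologyIso_naturality f 0)).trans ?_)
      refine (Category.assoc _ _ _).trans ((congrArg (_ ≫ ·) h2).trans (Category.assoc _ _ _).symm))

/-- The coinduced representation of functions on the group. -/
noncomputable def funRep (M : Rep.{v} Zℤ.{v} G) : Representation Zℤ.{v} G (G → M) where
  toFun g := LinearMap.funLeft Zℤ.{v} M fun x : G => x * g
  map_one' := LinearMap.ext fun f => funext fun x => congrArg f (mul_one x)
  map_mul' g h := LinearMap.ext fun f => funext fun x => congrArg f (mul_assoc x g h).symm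

/-- Injective representations have an endomorphism of norm one. -/
theorem exists_normEnd_of_injective [Fintype G] (I : Rep.{v} Zℤ.{v} G) [Injective I] :
    ∃ φ : I →ₗ[Zℤ.{v}] I, ∀ a, GpCohX.normEnd I φ a = a := by
  classical
  let α : I ⟶ Rep.of (funRep I) := Rep.ofHom ⟨LinearMap.pi fun g => I.ρ g, fun h =>
    LinearMap.ext fun a => funext fun x => by
      show I.ρ x (I.ρ h a) = I.ρ (x * h) a
      rw [map_mul]; rfl⟩
  have hα : Mono α := (Rep.mono_iff_injective α).2 fun a b hab => by
    have h1 := congrFun hab (1 : G)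
    replace h1 : I.ρ 1 a = I.ρ 1 b := h1
    simpa using h1
  let r : Rep.of (funRep I) ⟶ I := Injective.factorThru (𝟙 I) α
  have hr : α ≫ r = 𝟙 I := Injective.comp_factorThru _ _
  refine ⟨r.hom.toLinearMap ∘ₗ LinearMap.single Zℤ.{v} (fun _ : G => I.V) 1, fun a => ?_⟩
  rw [GpCohX.normEnd_apply]
  have h1 : ∀ h : G, I.ρ h (r.hom.toLinearMap (Pi.single (1 : G) (I.ρ h⁻¹ a) : G → I)) =
      r.hom.toLinearMap (funRep I h (Pi.single (1 : G) (I.ρ h⁻¹ a) : G → I)) := fun h =>
    (LinearMap.congr_fun (r.hom.isIntertwining' h) _).symm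
  refine (Finset.sum_congr rfl fun h _ => h1 h).trans ?_
  rw [← map_sum]
  refine Eq.trans (congrArg r.hom.toLinearMap (funext fun x => ?_)) (ConcreteCategory.congr_hom hr a)
  rw [Finset.sum_apply, Finset.sum_eq_single x⁻¹]
  · show (Pi.single (1 : G) _ : G → I) (x * x⁻¹) = I.ρ x a
    simp
  · intro h _ hh
    show (Pi.single (1 : G) _ : G → I) (x * h) = 0
    refine Pi.single_eq_of_ne (fun e => hh ?_) _
    exact eq_inv_of_mul_eq_one_right e
  · exact fun h => absurd (Finset.mem_univ _) h

theorem exactAt_cochK_injective (I : Rep.{v} Zℤ.{v} G) (hI : Injective I) (p : ℕ) :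
    ((cochK (G := G)).obj I).ExactAt (p + 1) := by
  have := Fintype.ofFinite G
  obtain ⟨φ, hφ⟩ := exists_normEnd_of_injective I
  exact exactAt_cochK_of_normEnd I φ hφ p

end Cochains

end Groth.Agent.HS11
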